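import Cfsg.Agent.FuT.Defs
import Cfsg.Prelude.Def_FusionSystem

/-! Isomorphism of 2-fusion systems of finite groups: basic properties. -/

set_option autoImplicit false

namespace Cfsg.Lib.FuT

open Subgroup Equiv

universe u v w

section FusLemmas

variable {G : Type*} {H : Type*} [Group G] [Group H] {M M' : Type*}

theorem Fus.conj_iff {j j' : M → G} (c : G) (h : ∀ x, j' x = c * j x * c⁻¹) (R : Set (M × M)) :
    Fus j R ↔ Fus j' R := by
  constructor
  · rintro ⟨g, hg⟩
    exact ⟨c * g * c⁻¹, fun p hp => by rw [h, h, hg p hp]; group⟩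
  · rintro ⟨g, hg⟩
    refine ⟨c⁻¹ * g * c, fun p hp => ?_⟩
    have := hg p hp
    rw [h, h] at this
    calc j p.2 = c⁻¹ * (c * j p.2 * c⁻¹) * c := by group
      _ = _ := by rw [this]; group

theorem Fus.comp_iff (j : M → G) (f : M' → M) (R : Set (M' × M')) :
    Fus (fun x => j (f x)) R ↔ Fus j (Prod.map f f '' R) := by
  constructor
  · rintro ⟨g, hg⟩
    exact ⟨g, by rintro _ ⟨p, hp, rfl⟩; exact hg p hp⟩
  · rintro ⟨g, hg⟩
    exact ⟨g, fun p hp => hg _ ⟨p, hp, rfl⟩⟩

theorem Fus.precomp {j : M → G} {j' : M → H} (h : ∀ R, Fus j R ↔ Fus j' R) (f : M' → M)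
    (R : Set (M' × M')) : Fus (fun x => j (f x)) R ↔ Fus (fun x => j' (f x)) R := by
  rw [Fus.comp_iff j, Fus.comp_iff j', h]

theorem Fus.map_iff (j : M → G) (e : G ≃* H) (R : Set (M × M)) :
    Fus j R ↔ Fus (fun x => e (j x)) R := by
  constructor
  · rintro ⟨g, hg⟩
    exact ⟨e g, fun p hp => by simp only [hg p hp, map_mul, map_inv]⟩
  · rintro ⟨g, hg⟩
    refine ⟨e.symm g, fun p hp => e.injective ?_⟩
    simpa only [map_mul, map_inv, MulEquiv.apply_symm_apply] using hg p hp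

end FusLemmas

section Basic

variable {G : Type u} {H : Type v} {K : Type w} [Group G] [Group H] [Group K]

/-- The isomorphism of `M` with the Sylow subgroup that is the image of `j`. -/
noncomputable def embEquiv {M : Type*} [Group M] {j : M →* G} (hj : Function.Injective j)
    {T : Subgroup G} (hT : T = j.range) : M ≃* T :=
  (MonoidHom.ofInjective hj).trans (MulEquiv.subgroupCongr hT.symm)

theorem coe_embEquiv {M : Type*} [Group M] {j : M →* G} (hj : Function.Injective j)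
    {T : Subgroup G} (hT : T = j.range) (x : M) : (embEquiv hj hT x : G) = j x := rfl

theorem emb_subtype (S : Sylow 2 G) : Emb (S : Subgroup G).subtype :=
  ⟨Subtype.coe_injective, S, (range_subtype _).symm⟩

theorem Emb.isPGroup {M : Type*} [Group M] {j : M →* G} (hj : Emb j) : IsPGroup 2 M := by
  obtain ⟨h, T, hT⟩ := hj
  exact T.isPGroup'.of_equiv (embEquiv h hT).symm

theorem Emb.precomp {M M' : Type*} [Group M] [Group M'] {j : M →* G} (hj : Emb j) (e : M' ≃* M) :
    Emb (j.comp e.toMonoidHom) := by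
  obtain ⟨h, T, hT⟩ := hj
  refine ⟨h.comp e.injective, T, ?_⟩
  have : e.toMonoidHom.range = ⊤ := MonoidHom.range_eq_top.2 e.surjective
  rw [hT, MonoidHom.range_comp, this, ← MonoidHom.range_eq_map]

theorem Emb.postcomp [Finite G] {M : Type*} [Group M] {j : M →* G} (hj : Emb j) (e : G ≃* H) :
    Emb (e.toMonoidHom.comp j) := by
  obtain ⟨h, T, hT⟩ := hj
  have hs : Function.Surjective e.toMonoidHom := e.surjective
  refine ⟨e.injective.comp h, T.mapSurjective hs, ?_⟩
  rw [Sylow.coe_mapSurjective, hT, MonoidHom.range_comp]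

theorem FI.of_span {M : Type w} [Group M] (j : M →* G) (j' : M →* H) (hj : Emb j) (hj' : Emb j')
    (h : ∀ R, Fus j R ↔ Fus j' R) : FI G H := by
  obtain ⟨hi, S, hS⟩ := hj
  obtain ⟨hi', T, hT⟩ := hj'
  refine ⟨S, T, (embEquiv hi hS).symm.trans (embEquiv hi' hT), fun R => ?_⟩
  have h1 := Fus.precomp h (embEquiv hi hS).symm R
  have h2 : (fun x => j ((embEquiv hi hS).symm x)) = fun x : (S : Subgroup G) => (x : G) :=
    funext fun x => by rw [← coe_embEquiv hi hS, MulEquiv.apply_symm_apply]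
  rw [h2] at h1
  exact h1

theorem FI.of_equiv [Finite G] (e : G ≃* H) : FI G H := by
  obtain ⟨S⟩ : Nonempty (Sylow 2 G) := inferInstance
  exact FI.of_span _ _ (emb_subtype S) ((emb_subtype S).postcomp e) fun R => Fus.map_iff _ e R

theorem FI.symm (h : FI G H) : FI H G := by
  obtain ⟨S, T, e, h⟩ := h
  refine ⟨T, S, e.symm, fun R => ?_⟩
  have := Fus.precomp h e.symm R
  simp only [MulEquiv.apply_symm_apply] at this
  exact this.symm

theorem exists_sylow_equiv [Finite G] (S S' : Sylow 2 G) :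
    ∃ (e : (S : Subgroup G) ≃* (S' : Subgroup G)) (c : G), ∀ x, (e x : G) = c * x * c⁻¹ := by
  obtain ⟨c, rfl⟩ := MulAction.exists_smul_eq G S S'
  exact ⟨S.equivSMul c, c, fun _ => rfl⟩

theorem FI.sylow [Finite G] [Finite H] (h : FI G H) (S : Sylow 2 G) (T : Sylow 2 H) :
    ∃ e : (S : Subgroup G) ≃* (T : Subgroup H), ∀ R : Set (↥(S : Subgroup G) × ↥(S : Subgroup G)),
      Fus (fun x : (S : Subgroup G) => (x : G)) R ↔
        Fus (fun x : (S : Subgroup G) => (e x : H)) R := by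
  obtain ⟨S', T', e, h⟩ := h
  obtain ⟨a, c, ha⟩ := exists_sylow_equiv S S'
  obtain ⟨b, d, hb⟩ := exists_sylow_equiv T' T
  refine ⟨(a.trans e).trans b, fun R => ?_⟩
  rw [Fus.conj_iff c ha R, Fus.precomp h a R]
  exact Fus.conj_iff d (fun x => hb _) R

theorem FI.trans [Finite H] (h : FI G H) (h' : FI H K) : FI G K := by
  obtain ⟨S, T, e, h⟩ := h
  obtain ⟨T', U, e', h'⟩ := h'
  obtain ⟨a, c, ha⟩ := exists_sylow_equiv T T'
  refine ⟨S, U, (e.trans a).trans e', fun R => ?_⟩
  rw [h, Fus.conj_iff (j' := fun x => (a (e x) : H)) c (fun x => ha _) R]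
  exact Fus.precomp h' (fun x => a (e x)) R

theorem FI.pull [Finite G] [Finite H] (h : FI G H) {M : Type w} [Group M] (j : M →* H)
    (hM : IsPGroup 2 M) (hj : Function.Injective j) :
    ∃ f : M →* G, Function.Injective f ∧ (Emb j → Emb f) ∧ ∀ R, Fus j R ↔ Fus f R := by
  obtain ⟨T, hT⟩ := (hM.of_surjective _ j.rangeRestrict_surjective).exists_le_sylow
  obtain ⟨S⟩ : Nonempty (Sylow 2 G) := inferInstance
  obtain ⟨e, he⟩ := h.symm.sylow T S
  let k : M →* (T : Subgroup H) := j.codRestrict _ fun x => hT ⟨x, rfl⟩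
  have hk : Function.Injective k := fun x y hxy => hj (congrArg Subtype.val hxy)
  refine ⟨(S : Subgroup G).subtype.comp (e.toMonoidHom.comp k),
    Subtype.coe_injective.comp (e.injective.comp hk), ?_, fun R => Fus.precomp he k R⟩
  rintro ⟨-, T', hT'⟩
  refine ⟨Subtype.coe_injective.comp (e.injective.comp hk), S, ?_⟩
  have hTT : (T : Subgroup H) = T' := T'.is_maximal' T.isPGroup' (hT' ▸ hT)
  have hs : Function.Surjective k := fun y => by
    obtain ⟨x, hx⟩ : (y : H) ∈ j.range := hT' ▸ hTT ▸ y.2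
    exact ⟨x, Subtype.ext hx⟩
  rw [MonoidHom.range_comp, MonoidHom.range_eq_top.2 (e.surjective.comp hs),
    ← MonoidHom.range_eq_map, range_subtype]

theorem FI.equiv_of_emb [Finite G] [Finite H] (h : FI G H) {M : Type w} {M' : Type*} [Group M]
    [Group M'] {j : M →* G} {j' : M' →* H} (hj : Emb j) (hj' : Emb j') : Nonempty (M ≃* M') := by
  obtain ⟨hi, S, hS⟩ := hj
  obtain ⟨hi', T, hT⟩ := hj'
  obtain ⟨e, -⟩ := h.sylow S T
  exact ⟨((embEquiv hi hS).trans e).trans (embEquiv hi' hT).symm⟩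

theorem realized_iff (S : Subgroup G) (ι : S →* H) (hι : Function.Injective ι) :
    (Cfsg.groupFusionSystem S).IsRealizedBy ι ↔
      ∀ R : Set (S × S), Fus (fun x : S => (x : G)) R ↔ Fus ι R := by
  constructor
  · rintro ⟨-, h⟩ R
    constructor
    · rintro ⟨g, hg⟩
      let P : Subgroup G := S ⊓ S.comap (MulAut.conj g).toMonoidHom
      let φ : P →* G := (MulAut.conj g).toMonoidHom.comp P.subtype
      have hφ : ∀ x : P, φ x ∈ S := fun x => x.2.2
      obtain ⟨k, hk⟩ := (h P inf_le_left φ hφ).1 ⟨inf_le_left, hφ, g, fun _ => rfl⟩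
      refine ⟨k, fun p hp => ?_⟩
      have hm : (p.1 : G) ∈ P := ⟨p.1.2, by
        change g * (p.1 : G) * g⁻¹ ∈ S
        rw [← hg p hp]; exact p.2.2⟩
      have := hk ⟨p.1, hm⟩
      rwa [show (⟨φ ⟨p.1, hm⟩, hφ _⟩ : S) = p.2 from Subtype.ext (hg p hp).symm] at this
    · rintro ⟨k, hk⟩
      let U : Subgroup S := ι.range.comap ((MulAut.conj k).toMonoidHom.comp ι)
      let ψ : U →* S := (MonoidHom.ofInjective hι).symm.toMonoidHom.comp
        ((((MulAut.conj k).toMonoidHom.comp ι).comp U.subtype).codRestrict _ fun x => x.2)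
      have hψ : ∀ x : U, ι (ψ x) = k * ι x * k⁻¹ := fun x =>
        MonoidHom.apply_ofInjective_symm hι _
      let a := U.equivMapOfInjective S.subtype S.subtype_injective
      let φ : U.map S.subtype →* G := S.subtype.comp (ψ.comp a.symm.toMonoidHom)
      have hφ : ∀ x, φ x ∈ S := fun x => (ψ (a.symm x)).2
      obtain ⟨-, -, g, hg⟩ := (h _ (map_subtype_le U) φ hφ).2 ⟨k, fun x => by
        obtain ⟨y, rfl⟩ := a.surjective x
        have e1 : (⟨φ (a y), hφ _⟩ : S) = ψ y := Subtype.ext (by simp [φ])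
        rw [e1, hψ]
        rfl⟩
      refine ⟨g, fun p hp => ?_⟩
      have hm : p.1 ∈ U := ⟨p.2, hk p hp⟩
      have h1 := hg (a ⟨p.1, hm⟩)
      have h2 : ψ ⟨p.1, hm⟩ = p.2 := hι (by rw [hψ, hk p hp])
      have h3 : φ (a ⟨p.1, hm⟩) = p.2 := by simp [φ, h2]
      rw [h3] at h1
      exact h1
  · intro h
    refine ⟨hι, fun P hP φ hφ => ?_⟩
    have := h (Set.range fun x : P => ((⟨x, hP x.2⟩ : S), (⟨φ x, hφ x⟩ : S)))
    simp only [Fus, Set.forall_mem_range] at this
    rw [← this]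
    exact ⟨fun h => h.2.2, fun h => ⟨hP, hφ, h⟩⟩

theorem fi_iff [Finite G] [Finite H] (S : Sylow 2 G) :
    (∃ ι : ↥(S : Subgroup G) →* H, (Cfsg.groupFusionSystem (S : Subgroup G)).IsRealizedBy ι ∧
      ∃ T : Sylow 2 H, (T : Subgroup H) = ι.range) ↔ FI G H := by
  constructor
  · rintro ⟨ι, h, hT⟩
    exact FI.of_span _ ι (emb_subtype S) ⟨h.1, hT⟩ ((realized_iff _ ι h.1).1 h)
  · intro h
    obtain ⟨f, hf, he, hR⟩ := h.symm.pull (S : Subgroup G).subtype S.isPGroup' Subtype.coe_injective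
    exact ⟨f, (realized_iff _ f hf).2 hR, (he (emb_subtype S)).2⟩

theorem emb_of_card [Finite G] {M : Type w} [Group M] (j : M →* G) (hj : Function.Injective j)
    {k m : ℕ} (hM : Nat.card M = 2 ^ k) (hm : Odd m) (hG : Nat.card G = m * 2 ^ k) : Emb j := by
  have h1 : Nat.card j.range = 2 ^ k := by
    rw [← hM]; exact Nat.card_congr (MonoidHom.ofInjective hj).symm.toEquiv
  have h2 := j.range.index_mul_card
  rw [h1, hG] at h2
  have h3 : j.range.index = m := Nat.eq_of_mul_eq_mul_right (by positivity) h2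
  exact ⟨hj, (IsPGroup.of_card h1).toSylow (by rw [h3]; exact hm.not_two_dvd_nat), rfl⟩

end Basic

end Cfsg.Lib.FuT
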