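import Mathlib
import Cfsg.Prelude.Def_Classical

/-! Transfer of 2-fusion between linear and unitary groups of small dimension: definitions. -/

set_option autoImplicit false

namespace Cfsg.Lib.FuT

open Subgroup Equiv

universe u v

/-- The pairs in `R` are simultaneously conjugate in `G`, read through `j`. -/
def Fus {M : Type*} {G : Type*} [Group G] (j : M → G) (R : Set (M × M)) : Prop :=
  ∃ g : G, ∀ p ∈ R, j p.2 = g * j p.1 * g⁻¹

/-- `G` and `H` have isomorphic 2-fusion systems. -/
def FI (G : Type u) (H : Type v) [Group G] [Group H] : Prop :=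
  ∃ (S : Sylow 2 G) (T : Sylow 2 H) (e : (S : Subgroup G) ≃* (T : Subgroup H)),
    ∀ R : Set (↥(S : Subgroup G) × ↥(S : Subgroup G)),
      Fus (fun x : (S : Subgroup G) => (x : G)) R ↔ Fus (fun x : (S : Subgroup G) => (e x : H)) R

/-- `j` is an embedding onto a Sylow 2-subgroup. -/
def Emb {M : Type*} {G : Type*} [Group M] [Group G] (j : M →* G) : Prop :=
  Function.Injective j ∧ ∃ T : Sylow 2 G, (T : Subgroup G) = j.range

/-- Two quaternion groups with a common centre, and an element rotating the first and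
centralizing the second. -/
def Pi1 (G : Type*) [Group G] : Prop :=
  ∃ x y u v g : G, IsPGroup 2 (closure ({x, y, u, v} : Set G)) ∧ x * x ≠ 1 ∧ x * x * (x * x) = 1 ∧
    y * y = x * x ∧ y * x = x * x * (x * y) ∧ u * u = x * x ∧ v * v = x * x ∧
    v * u = x * x * (u * v) ∧ g * x * g⁻¹ = y ∧ g * y * g⁻¹ = x * y ∧ Commute g u ∧ Commute g v

/-- Some 2-central involution has a centralizer with a subgroup of index two. -/
def Pi2 (G : Type*) [Group G] : Prop :=
  ∃ z : G, orderOf z = 2 ∧ Odd (centralizer ({z} : Set G)).index ∧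
    ∃ H : Subgroup (centralizer ({z} : Set G)), H.index = 2

/-! ### Intertwiners -/

/-- The intertwiners from `φ` to `ψ`. -/
def Itw {P : Type*} [Group P] {n : ℕ} {L : Type*} [Field L] (φ ψ : P →* GL (Fin n) L) :
    Submodule L (Matrix (Fin n) (Fin n) L) where
  carrier := {X | ∀ x : P, X * (φ x : Matrix (Fin n) (Fin n) L) = (ψ x : Matrix (Fin n) (Fin n) L) * X}
  add_mem' {X Y} hX hY x := by rw [add_mul, mul_add, hX x, hY x]
  zero_mem' x := by simp
  smul_mem' c X hX x := by rw [smul_mul_assoc, mul_smul_comm, hX x]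

/-- The dimension of the space of intertwiners. -/
noncomputable def idim {P : Type*} [Group P] {n : ℕ} {L : Type*} [Field L]
    (φ ψ : P →* GL (Fin n) L) : ℕ := Module.finrank L (Itw φ ψ)

/-! ### Abstract monomial groups -/

/-- The monomial group: `e i ↦ ζ ^ (t i) • e (p i)`. -/
@[ext] structure W (n : ℕ) (A : Type*) where
  /-- the diagonal part -/
  t : Fin n → A
  /-- the permutation part -/
  p : Perm (Fin n)

namespace W

variable {n : ℕ} {A B : Type*} [AddCommGroup A] [AddCommGroup B]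

instance : Group (W n A) where
  mul x y := ⟨fun i => x.t (y.p i) + y.t i, x.p * y.p⟩
  one := ⟨0, 1⟩
  inv x := ⟨fun i => -x.t (x.p⁻¹ i), x.p⁻¹⟩
  mul_assoc x y z := W.ext (funext fun _ => add_assoc _ _ _) (mul_assoc _ _ _)
  one_mul x := W.ext (funext fun i => zero_add _) (one_mul _)
  mul_one x := W.ext (funext fun i => add_zero _) (mul_one _)
  inv_mul_cancel x := W.ext (funext fun i => by
    change -x.t (x.p⁻¹ (x.p i)) + x.t i = 0
    simp) (inv_mul_cancel _)

@[simp] theorem mul_t (x y : W n A) (i : Fin n) : (x * y).t i = x.t (y.p i) + y.t i := rfl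
@[simp] theorem mul_p (x y : W n A) : (x * y).p = x.p * y.p := rfl
@[simp] theorem one_t (i : Fin n) : (1 : W n A).t i = 0 := rfl
@[simp] theorem one_p : (1 : W n A).p = 1 := rfl
@[simp] theorem inv_t (x : W n A) (i : Fin n) : (x⁻¹).t i = -x.t (x.p⁻¹ i) := rfl
@[simp] theorem inv_p (x : W n A) : (x⁻¹).p = x.p⁻¹ := rfl

/-- `W n A` as a product of sets. -/
def equivProd (n : ℕ) (A : Type*) : W n A ≃ (Fin n → A) × Perm (Fin n) where
  toFun x := (x.t, x.p)
  invFun y := ⟨y.1, y.2⟩

instance [Finite A] : Finite (W n A) := Finite.of_equiv _ (equivProd n A).symm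

/-- Change of the coefficient group. -/
def map (f : A →+ B) : W n A →* W n B where
  toFun x := ⟨fun i => f (x.t i), x.p⟩
  map_one' := W.ext (funext fun _ => map_zero f) rfl
  map_mul' _ _ := W.ext (funext fun _ => map_add f _ _) rfl

@[simp] theorem map_t (f : A →+ B) (x : W n A) (i : Fin n) : (map f x).t i = f (x.t i) := rfl
@[simp] theorem map_p (f : A →+ B) (x : W n A) : (map f x).p = x.p := rfl

end W

section Mono

variable {n : ℕ} {L : Type*} [Field L]

/-- The monomial matrix of an element of the monomial group over `Lˣ`. -/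
def monoM : W n (Additive Lˣ) →* Matrix (Fin n) (Fin n) L where
  toFun x := Matrix.of fun a i => if a = x.p i then ((x.t i).toMul : L) else 0
  map_one' := by
    ext a i
    simp only [Matrix.of_apply, W.one_p, Perm.one_apply, W.one_t, toMul_zero, Units.val_one,
      Matrix.one_apply]
    rfl
  map_mul' x y := by
    ext a i
    simp only [Matrix.of_apply, W.mul_p, Perm.mul_apply, W.mul_t, toMul_add, Units.val_mul,
      Matrix.mul_apply, mul_ite, mul_zero, Finset.sum_ite_eq', Finset.mem_univ, if_true, ite_mul,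
      zero_mul]
    rfl

theorem monoM_apply (x : W n (Additive Lˣ)) (a i : Fin n) :
    monoM x a i = if a = x.p i then ((x.t i).toMul : L) else 0 := rfl

/-- The monomial matrix as an invertible matrix. -/
def mono : W n (Additive Lˣ) →* GL (Fin n) L := monoM.toHomUnits

@[simp] theorem coe_mono (x : W n (Additive Lˣ)) :
    (mono x : Matrix (Fin n) (Fin n) L) = monoM x := rfl

/-- The monomial representation attached to `χ`. -/
def mon {A : Type*} [AddCommGroup A] (χ : A →+ Additive Lˣ) : W n A →* GL (Fin n) L :=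
  mono.comp (W.map χ)

end Mono

/-! ### The model of the Sylow 2-subgroup -/

/-- The permutation `(0 1)(2 3)⋯`. -/
def w0 (n : ℕ) : Perm (Fin n) :=
  Function.Involutive.toPerm (fun i : Fin n =>
    if h : i.1 % 2 = 0 ∧ i.1 + 1 < n then ⟨i.1 + 1, h.2⟩
    else if i.1 % 2 = 1 then ⟨i.1 - 1, by omega⟩ else i) (by
      rintro ⟨i, hi⟩
      by_cases h : i % 2 = 0 ∧ i + 1 < n
      · have h1 : ¬ ((i + 1) % 2 = 0 ∧ i + 1 + 1 < n) := by omega
        have h2 : (i + 1) % 2 = 1 := by omega
        simp [h, h2]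
      · by_cases h' : i % 2 = 1
        · have h1 : (i - 1) % 2 = 0 ∧ i - 1 + 1 < n := by omega
          have h2 : i - 1 + 1 = i := by omega
          simp [h', h1, h2, hi]
        · simp [h, h'])

/-- The twisting permutation: `w0` in the non-split case `b = true`, else `1`. -/
def wv (n : ℕ) (b : Bool) : Perm (Fin n) := if b then w0 n else 1

/-- The residue of `± q` modulo `2 ^ N`. -/
def sv (N : ℕ) (b : Bool) : ZMod (2 ^ N) := if b then 2 ^ (N - 1) - 1 else 2 ^ (N - 1) + 1

/-- The exponent of the determinant. -/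
def dW {n N : ℕ} (x : W n (ZMod (2 ^ N))) : ZMod (2 ^ N) :=
  ∑ i, x.t i + if Perm.sign x.p = 1 then 0 else 2 ^ (N - 1)

theorem commute_wv {n : ℕ} (b : Bool) {p : Perm (Fin n)} (h : Commute p (w0 n)) :
    Commute p (wv n b) := by
  cases b
  · exact Commute.one_right _
  · exact h

/-- The model of a Sylow 2-subgroup of the general group. -/
def Md (n N : ℕ) (b : Bool) : Subgroup (W n (ZMod (2 ^ N))) where
  carrier := {x | Commute x.p (w0 n) ∧ ∀ i, x.t (wv n b i) = sv N b * x.t i}
  mul_mem' {x y} hx hy := ⟨hx.1.mul_left hy.1, fun i => by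
    have h := congrArg (fun p : Perm (Fin n) => p i) (commute_wv b hy.1).eq
    simp only [Perm.mul_apply] at h
    rw [W.mul_t, W.mul_t, h, hx.2, hy.2, mul_add]⟩
  one_mem' := ⟨Commute.one_left _, fun i => by simp⟩
  inv_mem' {x} hx := ⟨hx.1.inv_left, fun i => by
    have h := congrArg (fun p : Perm (Fin n) => p i) (commute_wv b hx.1).inv_left.eq
    simp only [Perm.mul_apply] at h
    rw [W.inv_t, W.inv_t, h, hx.2, mul_neg]⟩

theorem two_half {N : ℕ} : (2 : ZMod (2 ^ N)) ^ (N - 1) + 2 ^ (N - 1) = 0 := by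
  rcases N with _ | N
  · exact Subsingleton.elim (α := ZMod 1) _ _
  · have : ((2 ^ (N + 1) : ℕ) : ZMod (2 ^ (N + 1))) = 0 := ZMod.natCast_self _
    push_cast at this
    rw [Nat.add_sub_cancel, ← two_mul, ← pow_succ', this]

theorem dW_mul {n N : ℕ} (x y : W n (ZMod (2 ^ N))) : dW (x * y) = dW x + dW y := by
  have h := Equiv.sum_comp y.p x.t
  simp only [dW, W.mul_t, W.mul_p, Finset.sum_add_distrib, h, map_mul]
  rcases Int.units_eq_one_or (Perm.sign x.p) with h1 | h1 <;>
    rcases Int.units_eq_one_or (Perm.sign y.p) with h2 | h2 <;> simp [h1, h2]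
  · ring
  · ring
  · linear_combination -two_half (N := N)

/-- The determinant exponent as a homomorphism. -/
def dH (n N : ℕ) : W n (ZMod (2 ^ N)) →* Multiplicative (ZMod (2 ^ N)) where
  toFun x := Multiplicative.ofAdd (dW x)
  map_one' := by simp [dW]
  map_mul' x y := by rw [dW_mul]; rfl

/-- The model of a Sylow 2-subgroup of the special group. -/
def M0 (n N : ℕ) (b : Bool) : Subgroup (W n (ZMod (2 ^ N))) := Md n N b ⊓ (dH n N).ker

theorem mem_M0 {n N : ℕ} {b : Bool} {x : W n (ZMod (2 ^ N))} : x ∈ M0 n N b ↔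
    (Commute x.p (w0 n) ∧ ∀ i, x.t (wv n b i) = sv N b * x.t i) ∧ dW x = 0 := Iff.rfl

/-- The scalars. -/
def Sc (n : ℕ) (A : Type*) [AddCommGroup A] : Subgroup (W n A) where
  carrier := {x | x.p = 1 ∧ ∀ i k, x.t i = x.t k}
  mul_mem' {x y} hx hy := ⟨by rw [W.mul_p, hx.1, hy.1, mul_one], fun i k => by
    rw [W.mul_t, W.mul_t, hx.2 _ (y.p k), hy.2 i k]⟩
  one_mem' := ⟨rfl, fun _ _ => rfl⟩
  inv_mem' {x} hx := ⟨by rw [W.inv_p, hx.1, inv_one], fun i k => by
    rw [W.inv_t, W.inv_t, hx.2 _ (x.p⁻¹ k)]⟩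

theorem Sc_le_center (n : ℕ) (A : Type*) [AddCommGroup A] : Sc n A ≤ center (W n A) :=
  fun x hx => mem_center_iff.2 fun y => W.ext (funext fun i => by
    rw [W.mul_t, W.mul_t, hx.1, hx.2 (y.p i) i, Perm.one_apply, add_comm])
    (by rw [W.mul_p, W.mul_p, hx.1, mul_one, one_mul])

instance (n : ℕ) (A : Type*) [AddCommGroup A] : (Sc n A).Normal :=
  ⟨fun x hx y => by rwa [mem_center_iff.1 (Sc_le_center n A hx) y, mul_inv_cancel_right]⟩

/-- The model of a Sylow 2-subgroup of the projective special group. -/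
abbrev Mb (n N : ℕ) (b : Bool) : Type :=
  M0 n N b ⧸ (Sc n (ZMod (2 ^ N))).subgroupOf (M0 n N b)

/-- The order of `M0 n N b` is `2 ^ ordM n N b` for `n = 3, 4, 5`. -/
def ordM (n N : ℕ) (b : Bool) : ℕ :=
  if n = 3 then (if b then N + 1 else 2 * N - 1)
  else if n = 4 then (if b then 2 * N + 2 else 3 * N)
  else (if b then 2 * N + 3 else 4 * N - 1)

/-- The order of `Mb n N b` is `2 ^ ordB n N b` for `n = 3, 4, 5`. -/
def ordB (n N : ℕ) (b : Bool) : ℕ :=
  if n = 4 then (if b then 2 * N + 1 else 3 * N - 2) else ordM n N b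

/-! ### Twisted Frobenius data -/

/-- The fixed points of `σ` of determinant one. -/
def fix0 {n : ℕ} {L : Type*} [Field L] (σ : GL (Fin n) L →* GL (Fin n) L) :
    Subgroup (GL (Fin n) L) :=
  σ.eqLocus (MonoidHom.id _) ⊓ (Matrix.GeneralLinearGroup.det : GL (Fin n) L →* Lˣ).ker

/-- An involution `σ` of `GL n L` acting on monomial matrices as the `e`-th power map (`e = q`
for the linear and `e = -q` for the unitary group, `L` the field with `q ^ 2` elements). -/
structure Tw (n N : ℕ) (b : Bool) (L : Type u) [Field L] where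
  /-- the involution -/
  σ : GL (Fin n) L →* GL (Fin n) L
  /-- the exponent `± q` -/
  e : ℤ
  /-- the roots of unity of order dividing `2 ^ N` -/
  χ : ZMod (2 ^ N) →+ Additive Lˣ
  three_le : 3 ≤ N
  two_ne : (2 : L) ≠ 0
  he : (e : ZMod (2 ^ N)) = sv N b
  χ_inj : Function.Injective χ
  σσ : ∀ g, σ (σ g) = g
  σ_mono : ∀ x : W n (Additive Lˣ), σ (mono x) = mono ⟨fun i => e • x.t i, x.p⟩
  σ_det : ∀ g, Matrix.GeneralLinearGroup.det (σ g) = Matrix.GeneralLinearGroup.det g ^ e
  h90 : ∀ a, a * σ a = 1 → ∃ c, (σ c)⁻¹ * c = a ∧ ∀ y, Commute y a → Commute y c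
  cent : ∀ g ∈ fix0 σ, (∀ h ∈ fix0 σ, Commute h g) →
    ∃ l : L, (g : Matrix (Fin n) (Fin n) L) = Matrix.scalar (Fin n) l
  card : ∃ m : ℕ, Odd m ∧ Nat.card (fix0 σ) = m * ∏ i ∈ Finset.Icc 2 n, (e ^ i - 1).natAbs

/-- The projective special group of the datum. -/
abbrev Tw.P {n N : ℕ} {b : Bool} {L : Type u} [Field L] (D : Tw n N b L) : Type u :=
  fix0 D.σ ⧸ center (fix0 D.σ)

end Cfsg.Lib.FuT
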